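import Groth.Agent.Lib.Helper8.CechU.BasicU
import Mathlib

/-! # Injective presheaves are Čech-acyclic (general universes), via free presheaves. -/

universe w v u
open CategoryTheory Limits Opposite

namespace Groth.Agent.H8.CechU

variable {C : Type u} [Category.{v} C] {U : C} [HasFiniteProducts (Over U)] {ι : Type w}
  (Uf : ι → Over U)

/-- two maps to the underlying object of a (nonempty) product in `Over U` agree if their
components agree. -/
lemma left_hom_ext {n : ℕ} (F : Fin (n+1) → Over U) {Z : C} (φ φ' : Z ⟶ (∏ᶜ F).left)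
    (h : ∀ k, φ ≫ (Pi.π F k).left = φ' ≫ (Pi.π F k).left) : φ = φ' := by
  have hf : φ ≫ (∏ᶜ F).hom = φ' ≫ (∏ᶜ F).hom := by
    rw [← Over.w (Pi.π F 0), ← Category.assoc, ← Category.assoc, h 0]
  have : (Over.homMk φ rfl : Over.mk (φ ≫ (∏ᶜ F).hom) ⟶ ∏ᶜ F) =
      Over.homMk φ' (by simpa using hf.symm) := by
    apply Pi.hom_ext
    intro k
    apply Over.OverMorphism.ext
    simpa using h k
  simpa using congr_arg CommaMorphism.left this

/-- pairs (index, map to the underlying object of the corresponding member). -/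
abbrev Sel (W : C) : Type (max w v) := Σ i : ι, (W ⟶ (Uf i).left)

variable {Uf}

/-- the structure map `W ⟶ U` of a selection. -/
def str {W : C} (s : Sel Uf W) : W ⟶ U := s.2 ≫ (Uf s.1).hom

variable (Uf)

/-- tuples of selections with a common structure map. -/
def Bs (p : ℕ) (W : C) : Type (max w v) :=
  {t : Fin (p+1) → Sel Uf W // ∀ k, str (t k) = str (t 0)}

variable {Uf}

namespace Bs

variable {p : ℕ} {W W' : C}

@[ext] lemma ext {t t' : Bs Uf p W} (h : t.1 = t'.1) : t = t' := Subtype.ext h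

/-- pullback of tuples. -/
def pull (g : W' ⟶ W) (t : Bs Uf p W) : Bs Uf p W' :=
  ⟨fun k => ⟨(t.1 k).1, g ≫ (t.1 k).2⟩, fun k => by
    have := t.2 k
    simp only [str, Category.assoc] at this ⊢
    rw [this]⟩

/-- faces. -/
def face (t : Bs Uf (p+1) W) (i : Fin (p+2)) : Bs Uf p W :=
  ⟨t.1 ∘ i.succAbove, fun k => (t.2 _).trans (t.2 _).symm⟩

/-- the indices of a tuple. -/
def idx (t : Bs Uf p W) : Fin (p+1) → ι := fun k => (t.1 k).1

/-- the entries as morphisms over `U`. -/
def hom (t : Bs Uf p W) (k : Fin (p+1)) : Over.mk (str (t.1 0)) ⟶ Uf (t.idx k) :=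
  Over.homMk (t.1 k).2 (t.2 k)

/-- the induced map to the product. -/
noncomputable def ψ (t : Bs Uf p W) : W ⟶ (∏ᶜ (Uf ∘ t.idx)).left :=
  (Pi.lift (fun k => t.hom k) : Over.mk (str (t.1 0)) ⟶ ∏ᶜ (Uf ∘ t.idx)).left

@[reassoc]
lemma ψ_π (t : Bs Uf p W) (k : Fin (p+1)) :
    t.ψ ≫ (Pi.π (Uf ∘ t.idx) k).left = (t.1 k).2 := by
  unfold ψ
  rw [← Over.comp_left, Pi.lift_π]
  rfl

lemma idx_pull (g : W' ⟶ W) (t : Bs Uf p W) : (t.pull g).idx = t.idx := rfl

lemma ψ_pull (g : W' ⟶ W) (t : Bs Uf p W) : (t.pull g).ψ = g ≫ t.ψ := by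
  apply left_hom_ext
  intro k
  have h1 := ψ_π (t.pull g) k
  have h2 := ψ_π t k
  change (t.pull g).ψ ≫ (Pi.π (Uf ∘ t.idx) k).left = (g ≫ t.ψ) ≫ (Pi.π (Uf ∘ t.idx) k).left
  rw [Category.assoc, h2]
  exact h1

lemma idx_face (t : Bs Uf (p+1) W) (i : Fin (p+2)) : (t.face i).idx = t.idx ∘ i.succAbove := rfl

lemma ψ_face (t : Bs Uf (p+1) W) (i : Fin (p+2)) :
    (t.face i).ψ = t.ψ ≫ (CechU.face Uf t.idx i).left := by
  apply left_hom_ext
  intro k
  have h1 := ψ_π (t.face i) k
  have h2 := ψ_π t (i.succAbove k)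
  have h3 := congr_arg Over.Hom.left (face_π Uf t.idx i k)
  rw [Over.comp_left] at h3
  change (t.face i).ψ ≫ (Pi.π (Uf ∘ t.idx ∘ i.succAbove) k).left =
    (t.ψ ≫ (CechU.face Uf t.idx i).left) ≫ (Pi.π (Uf ∘ t.idx ∘ i.succAbove) k).left
  rw [Category.assoc, h3, h2]
  exact h1

lemma pull_face (g : W' ⟶ W) (t : Bs Uf (p+1) W) (i : Fin (p+2)) :
    (t.pull g).face i = (t.face i).pull g := rfl

lemma pull_id (t : Bs Uf p W) : t.pull (𝟙 W) = t := by
  apply Bs.ext
  funext k
  exact Sigma.ext rfl (heq_of_eq (Category.id_comp _))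

lemma pull_comp {W'' : C} (g : W' ⟶ W) (g' : W'' ⟶ W') (t : Bs Uf p W) :
    t.pull (g' ≫ g) = (t.pull g).pull g' := by
  apply Bs.ext
  funext k
  exact Sigma.ext rfl (heq_of_eq (Category.assoc _ _ _))

variable (Uf) in
/-- the universal tuple over a product. -/
noncomputable def univ (a : Fin (p+1) → ι) : Bs Uf p (∏ᶜ (Uf ∘ a)).left :=
  ⟨fun k => ⟨a k, (Pi.π (Uf ∘ a) k).left⟩, fun k => by
    have h1 := Over.w (Pi.π (Uf ∘ a) k)
    have h2 := Over.w (Pi.π (Uf ∘ a) 0)
    exact h1.trans h2.symm⟩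

lemma idx_univ (a : Fin (p+1) → ι) : (univ Uf a).idx = a := rfl

lemma ψ_univ (a : Fin (p+1) → ι) : (univ Uf a).ψ = 𝟙 _ := by
  apply left_hom_ext
  intro k
  erw [ψ_π, Category.id_comp]
  rfl

lemma pull_face_univ (a : Fin (p+2) → ι) (i : Fin (p+2)) :
    (univ Uf (a ∘ i.succAbove)).pull (CechU.face Uf a i).left = (univ Uf a).face i := by
  apply Bs.ext
  funext k
  refine Sigma.ext rfl (heq_of_eq ?_)
  change (CechU.face Uf a i).left ≫ (Pi.π (Uf ∘ a ∘ i.succAbove) k).left =
    (Pi.π (Uf ∘ a) (i.succAbove k)).left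
  rw [← Over.comp_left, face_π]

/-- a chosen selection with given structure map. -/
noncomputable def selOf (f : W ⟶ U) (h : ∃ s : Sel Uf W, str s = f) : Sel Uf W := h.choose

lemma str_selOf (f : W ⟶ U) (h : ∃ s : Sel Uf W, str s = f) : str (selOf f h) = f := h.choose_spec

lemma selOf_congr {f f' : W ⟶ U} (e : f = f') (h : ∃ s : Sel Uf W, str s = f)
    (h' : ∃ s : Sel Uf W, str s = f') : selOf f h = selOf f' h' := by
  subst e
  rfl

/-- the cone of a tuple: insert the chosen base point in front. -/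
noncomputable def cone (t : Bs Uf p W) : Bs Uf (p+1) W :=
  ⟨Fin.cons (selOf (str (t.1 0)) ⟨t.1 0, rfl⟩) t.1, fun k => by
    refine Fin.cases ?_ (fun k => ?_) k
    · rfl
    · simp only [Fin.cons_succ, Fin.cons_zero]
      rw [str_selOf, t.2 k]⟩

lemma cone_face_zero (t : Bs Uf p W) : t.cone.face 0 = t := by
  apply Bs.ext
  funext k
  simp [face, cone]

lemma cone_face_succ (t : Bs Uf (p+1) W) (j : Fin (p+2)) :
    t.cone.face j.succ = (t.face j).cone := by
  apply Bs.ext
  funext k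
  refine Fin.cases ?_ (fun k => ?_) k
  · simp only [face, cone, Function.comp_apply, Fin.succ_succAbove_zero, Fin.cons_zero]
    exact selOf_congr (t.2 _).symm _ _
  · simp [face, cone, Fin.removeNth]

end Bs

section Free

variable [LocallySmall.{w} C]

instance (p : ℕ) (W : C) : Small.{w} (Bs Uf p W) := by
  unfold Bs
  infer_instance

variable (Uf) in
/-- the free presheaf on the tuples. -/
noncomputable def Kp (p : ℕ) : Cᵒᵖ ⥤ AddCommGrpCat.{w} where
  obj W := AddCommGrpCat.of (Shrink.{w} (Bs Uf p W.unop) →₀ ℤ)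
  map {W W'} g := AddCommGrpCat.ofHom (Finsupp.mapDomain.addMonoidHom
    (fun b => equivShrink _ (((equivShrink _).symm b).pull g.unop)))
  map_id W := by
    ext : 1
    apply Finsupp.addHom_ext
    intro b n
    simp [Finsupp.mapDomain.addMonoidHom, Bs.pull_id]
  map_comp g g' := by
    ext : 1
    apply Finsupp.addHom_ext
    intro b n
    simp [Finsupp.mapDomain.addMonoidHom, Bs.pull_comp]

/-- generators. -/
noncomputable def gen {p : ℕ} {W : C} (t : Bs Uf p W) : (Kp Uf p).obj (op W) :=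
  Finsupp.single (equivShrink _ t) (1 : ℤ)

lemma Kp_map_gen {p : ℕ} {W W' : C} (g : W' ⟶ W) (t : Bs Uf p W) :
    (Kp Uf p).map g.op (gen t) = gen (t.pull g) := by
  change Finsupp.mapDomain _ (Finsupp.single _ _) = _
  rw [Finsupp.mapDomain_single, Equiv.symm_apply_apply]
  rfl

/-- maps out of the free presheaf. -/
noncomputable def liftHom {p : ℕ} {W : C} (A : AddCommGrpCat.{w}) (φ : Bs Uf p W → A) :
    (Kp Uf p).obj (op W) ⟶ A :=
  AddCommGrpCat.ofHom (Finsupp.liftAddHom
    (fun b => (zmultiplesHom A) (φ ((equivShrink _).symm b))))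

lemma liftHom_gen {p : ℕ} {W : C} (A : AddCommGrpCat.{w}) (φ : Bs Uf p W → A) (t : Bs Uf p W) :
    liftHom A φ (gen t) = φ t := by
  change Finsupp.liftAddHom _ (Finsupp.single _ _) = _
  rw [Finsupp.liftAddHom_apply_single, Equiv.symm_apply_apply]
  simp

lemma Kp_hom_ext {p : ℕ} {W : C} {A : AddCommGrpCat.{w}} {f g : (Kp Uf p).obj (op W) ⟶ A}
    (h : ∀ t : Bs Uf p W, f (gen t) = g (gen t)) : f = g := by
  ext : 1
  apply Finsupp.addHom_ext
  intro b n
  have hb : (Finsupp.single b n : Shrink.{w} (Bs Uf p W) →₀ ℤ) = n • Finsupp.single b (1 : ℤ) := by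
    rw [Finsupp.smul_single, smul_eq_mul, mul_one]
  have hgen : gen ((equivShrink (Bs Uf p W)).symm b) = Finsupp.single b (1 : ℤ) := by
    unfold gen
    rw [Equiv.apply_symm_apply]
  have h1 := h ((equivShrink _).symm b)
  rw [hgen] at h1
  change f.hom (Finsupp.single b n) = g.hom (Finsupp.single b n)
  rw [hb]
  exact (map_zsmul f.hom n _).trans ((congr_arg (n • ·) h1).trans (map_zsmul g.hom n _).symm)

variable (Uf) in
/-- the boundary of the free complex. -/
noncomputable def bd (p : ℕ) : Kp Uf (p+1) ⟶ Kp Uf p where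
  app W := liftHom _ (fun t => ∑ i : Fin (p+2), (-1 : ℤ)^(i:ℕ) • gen (t.face i))
  naturality W W' g := by
    apply Kp_hom_ext (W := W.unop)
    intro t
    rw [ConcreteCategory.comp_apply, ConcreteCategory.comp_apply]
    have h1 := Kp_map_gen g.unop t
    rw [Quiver.Hom.op_unop] at h1
    rw [h1]
    erw [liftHom_gen, liftHom_gen]
    rw [map_sum]
    refine Finset.sum_congr rfl fun i _ => ?_
    rw [map_zsmul]
    have h2 := Kp_map_gen g.unop (t.face i)
    rw [Quiver.Hom.op_unop] at h2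
    rw [h2]
    rfl

lemma bd_gen {p : ℕ} {W : C} (t : Bs Uf (p+1) W) :
    (bd Uf p).app (op W) (gen t) = ∑ i : Fin (p+2), (-1 : ℤ)^(i:ℕ) • gen (t.face i) := by
  simp only [bd]
  exact liftHom_gen _ _ t

variable (Uf) in
/-- the contracting homotopy (objectwise). -/
noncomputable def hh (p : ℕ) (W : C) : (Kp Uf p).obj (op W) ⟶ (Kp Uf (p+1)).obj (op W) :=
  liftHom _ (fun t => gen t.cone)

lemma hh_gen {p : ℕ} {W : C} (t : Bs Uf p W) : hh Uf p W (gen t) = gen t.cone :=
  liftHom_gen _ _ t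

/-- the homotopy identity. -/
lemma bd_hh_add (p : ℕ) (W : C) (z : (Kp Uf (p+1)).obj (op W)) :
    (bd Uf (p+1)).app (op W) (hh Uf (p+1) W z) + hh Uf p W ((bd Uf p).app (op W) z) = z := by
  have : hh Uf (p+1) W ≫ (bd Uf (p+1)).app (op W) + (bd Uf p).app (op W) ≫ hh Uf p W = 𝟙 _ := by
    apply Kp_hom_ext
    intro t
    change (bd Uf (p+1)).app (op W) (hh Uf (p+1) W (gen t)) +
      hh Uf p W ((bd Uf p).app (op W) (gen t)) = gen t
    rw [hh_gen, bd_gen, bd_gen, map_sum, Fin.sum_univ_succ]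
    simp only [Fin.val_zero, pow_zero, one_smul, Fin.val_succ, Bs.cone_face_zero,
      Bs.cone_face_succ, map_zsmul, hh_gen]
    rw [add_assoc, ← Finset.sum_add_distrib]
    have : ∀ i : Fin (p+2), (-1 : ℤ)^((i : ℕ) + 1) • gen (t.face i).cone +
        (-1 : ℤ)^(i : ℕ) • gen (t.face i).cone = 0 := by
      intro i
      rw [pow_succ, mul_neg_one, neg_smul, neg_add_cancel]
    simp [this]
  exact ConcreteCategory.congr_hom this z

/-- exactness of the free complex, objectwise. -/
lemma exists_bd_eq (p : ℕ) (W : C) (z : (Kp Uf (p+1)).obj (op W))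
    (hz : (bd Uf p).app (op W) z = 0) :
    ∃ z' : (Kp Uf (p+2)).obj (op W), (bd Uf (p+1)).app (op W) z' = z := by
  refine ⟨hh Uf (p+1) W z, ?_⟩
  have := bd_hh_add p W z
  rw [hz, map_zero, add_zero] at this
  exact this

variable (I : Cᵒᵖ ⥤ AddCommGrpCat.{w})

/-- the restriction of a presheaf on `C` to `Over U`. -/
abbrev resO : (Over U)ᵒᵖ ⥤ AddCommGrpCat.{w} := (Over.forget U).op ⋙ I

omit [HasFiniteProducts (Over U)] [LocallySmall.{w} C] in
lemma map_congr' {W Z : C} (φ φ' : W ⟶ Z) (h : φ = φ') (y : I.obj (op Z)) :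
    I.map φ.op y = I.map φ'.op y := by
  subst h
  rfl

omit [HasFiniteProducts (Over U)] [LocallySmall.{w} C] in
lemma map_comp_apply' {W' W Z : C} (g : W' ⟶ W) (φ : W ⟶ Z) (y : I.obj (op Z)) :
    I.map (g ≫ φ).op y = I.map g.op (I.map φ.op y) := by
  rw [op_comp, Functor.map_comp, ConcreteCategory.comp_apply]

omit [HasFiniteProducts (Over U)] [LocallySmall.{w} C] in
lemma map_id_apply' (Z : C) (y : I.obj (op Z)) : I.map (𝟙 Z).op y = y := by
  rw [op_id, CategoryTheory.Functor.map_id]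
  rfl

/-- the morphism from the free presheaf attached to a cochain. -/
noncomputable def tilde {p : ℕ} (x : Coch Uf (resO I) p) : Kp Uf p ⟶ I where
  app W := liftHom _ (fun t => I.map t.ψ.op (x t.idx))
  naturality W W' g := by
    apply Kp_hom_ext (W := W.unop)
    intro t
    rw [ConcreteCategory.comp_apply, ConcreteCategory.comp_apply]
    have h1 := Kp_map_gen g.unop t
    rw [Quiver.Hom.op_unop] at h1
    rw [h1]
    erw [liftHom_gen, liftHom_gen]
    exact (map_congr' I _ _ (Bs.ψ_pull g.unop t) _).trans (map_comp_apply' I g.unop t.ψ _)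

lemma tilde_gen {p : ℕ} (x : Coch Uf (resO I) p) {W : C} (t : Bs Uf p W) :
    (tilde I x).app (op W) (gen t) = I.map t.ψ.op (x t.idx) := by
  simp only [tilde]
  exact liftHom_gen _ _ t

lemma tilde_zero {p : ℕ} : tilde I (0 : Coch Uf (resO I) p) = 0 := by
  ext W : 2
  apply Kp_hom_ext (W := W.unop)
  intro t
  erw [tilde_gen]
  exact map_zero (I.map t.ψ.op).hom

/-- compatibility of `tilde` with the differentials. -/
lemma bd_tilde {p : ℕ} (x : (K Uf (resO I)).X p) :
    bd Uf p ≫ tilde I (coch Uf (resO I) p x) =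
      tilde I (coch Uf (resO I) (p+1) ((K Uf (resO I)).d p (p+1) x)) := by
  ext W : 2
  apply Kp_hom_ext (W := W.unop)
  intro t
  rw [NatTrans.comp_app, ConcreteCategory.comp_apply]
  erw [bd_gen, tilde_gen]
  have hR : I.map t.ψ.op (coch Uf (resO I) (p+1) ((K Uf (resO I)).d p (p+1) x) t.idx) =
      ∑ i : Fin (p+2), (-1 : ℤ)^(i:ℕ) • I.map t.ψ.op
        ((resO I).map (face Uf t.idx i).op (coch Uf (resO I) p x (t.idx ∘ i.succAbove))) := by
    rw [coch_d]
    exact (map_sum (I.map t.ψ.op).hom _ _).trans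
      (Finset.sum_congr rfl fun i _ => map_zsmul (I.map t.ψ.op).hom _ _)
  rw [hR, map_sum]
  refine Finset.sum_congr rfl fun i _ => ?_
  rw [map_zsmul]
  congr 1
  erw [tilde_gen]
  exact (map_congr' I _ _ (Bs.ψ_face t i) _).trans
    (map_comp_apply' I t.ψ (face Uf t.idx i).left _)

/-- **injective presheaves are Čech-acyclic** (general universes). -/
theorem isZero_homology_of_injective [Injective I] (p : ℕ) :
    IsZero ((K Uf (resO I)).homology (p+1)) := by
  rw [isZero_homology_succ_iff]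
  intro x hx
  -- the morphism attached to `x`
  let xt : Kp Uf (p+1) ⟶ I := tilde I (coch Uf (resO I) (p+1) x)
  have h1 : bd Uf (p+1) ≫ xt = 0 := by
    rw [bd_tilde, hx, map_zero, tilde_zero]
  have h2 : kernel.ι (bd Uf p) ≫ xt = 0 := by
    ext W : 2
    rw [NatTrans.comp_app]
    ext z
    rw [ConcreteCategory.comp_apply]
    have hz : (bd Uf p).app W ((kernel.ι (bd Uf p)).app W z) = 0 := by
      have := congr_app (kernel.condition (bd Uf p)) W
      rw [NatTrans.comp_app] at this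
      have := ConcreteCategory.congr_hom this z
      rw [ConcreteCategory.comp_apply] at this
      exact this
    obtain ⟨z', hz'⟩ := exists_bd_eq p W.unop _ hz
    erw [← hz']
    have := congr_app h1 W
    rw [NatTrans.comp_app] at this
    have := ConcreteCategory.congr_hom this z'
    rw [ConcreteCategory.comp_apply] at this
    exact this
  -- extend along the monomorphism `coimage ↪ K_p`
  let xb : Abelian.coimage (bd Uf p) ⟶ I := cokernel.desc _ xt h2
  let yt : Kp Uf p ⟶ I := Injective.factorThru xb (Abelian.factorThruCoimage (bd Uf p))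
  have h3 : bd Uf p ≫ yt = xt := by
    have : bd Uf p = Abelian.coimage.π (bd Uf p) ≫ Abelian.factorThruCoimage (bd Uf p) :=
      (Abelian.coimage.fac (bd Uf p)).symm
    rw [this, Category.assoc, Injective.comp_factorThru]
    exact cokernel.π_desc _ _ _
  -- the cochain
  refine ⟨(coch Uf (resO I) p).symm (fun a => yt.app _ (gen (Bs.univ Uf a))), ?_⟩
  apply coch_ext
  intro a
  rw [coch_d]
  simp only [AddEquiv.apply_symm_apply]
  have h4 : ∀ i : Fin (p+2), (resO I).map (face Uf a i).op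
      (yt.app _ (gen (Bs.univ Uf (a ∘ i.succAbove)))) = yt.app _ (gen ((Bs.univ Uf a).face i)) := by
    intro i
    have := ConcreteCategory.congr_hom (yt.naturality (face Uf a i).left.op)
      (gen (Bs.univ Uf (a ∘ i.succAbove)))
    rw [ConcreteCategory.comp_apply, ConcreteCategory.comp_apply, Kp_map_gen,
      Bs.pull_face_univ] at this
    exact this.symm
  simp only [h4]
  have h5 : yt.app _ ((bd Uf p).app _ (gen (Bs.univ Uf a))) = xt.app _ (gen (Bs.univ Uf a)) := by
    have := congr_app h3 (op (∏ᶜ (Uf ∘ a)).left)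
    rw [NatTrans.comp_app] at this
    have := ConcreteCategory.congr_hom this (gen (Bs.univ Uf a))
    rw [ConcreteCategory.comp_apply] at this
    exact this
  rw [bd_gen, map_sum] at h5
  simp only [map_zsmul] at h5
  refine h5.trans ((tilde_gen I _ _).trans ?_)
  exact (map_congr' I _ _ (Bs.ψ_univ a) _).trans (map_id_apply' I _ _)

end Free

end Groth.Agent.H8.CechU
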