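import Groth.Agent.Lib.Helper8.CechU.BasicU
import Groth.Agent.Lib.Helper8.CechU.Free
import Groth.Agent.Lib.Helper8.LC.CxDelta
import Groth.Agent.Lib.Helper8.LC.RDerIso

/-! # Čech cohomology as a δ-functor on presheaves -/

set_option autoImplicit false
set_option linter.unusedSectionVars false

universe w v u
open CategoryTheory Limits Opposite

namespace Groth.Agent.H8.CechU

section general

variable {C : Type u} [Category.{v} C] [HasFiniteProducts C] {ι : Type w} (U : ι → C)

/-- A short complex of presheaves which is short exact objectwise gives a degreewise short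
exact sequence of Čech complexes. -/
lemma shortExact_cech_eval (S : ShortComplex (Cᵒᵖ ⥤ AddCommGrpCat.{w}))
    (hf : ∀ X, Function.Injective (S.f.app X))
    (hg : ∀ X, Function.Surjective (S.g.app X))
    (hex : ∀ X (y : S.X₂.obj X), S.g.app X y = 0 → ∃ x, S.f.app X x = y) (n : ℕ) :
    (S.map (cechComplexFunctor U ⋙ HomologicalComplex.eval _ _ n)).ShortExact := by
  have hmono : Mono (S.map (cechComplexFunctor U ⋙ HomologicalComplex.eval _ _ n)).f := by
    rw [AddCommGrpCat.mono_iff_injective]
    intro x y hxy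
    apply coch_ext
    intro a
    apply hf
    change ((cechComplexFunctor U).map S.f).f n x = ((cechComplexFunctor U).map S.f).f n y at hxy
    have := congr_fun (congr_arg (coch U S.X₂ n) hxy) a
    rw [coch_map, coch_map] at this
    exact this
  have hepi : Epi (S.map (cechComplexFunctor U ⋙ HomologicalComplex.eval _ _ n)).g := by
    rw [AddCommGrpCat.epi_iff_surjective]
    intro y
    choose x hx using fun a => hg _ (coch U S.X₃ n y a)
    refine ⟨(coch U S.X₂ n).symm x, ?_⟩
    apply coch_ext
    intro a
    change coch U S.X₃ n (((cechComplexFunctor U).map S.g).f n _) a = _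
    rw [coch_map, AddEquiv.apply_symm_apply, hx]
  refine ShortComplex.ShortExact.mk ?_
  rw [ShortComplex.ab_exact_iff]
  intro y hy
  change ((cechComplexFunctor U).map S.g).f n y = 0 at hy
  have h1 : ∀ a, S.g.app _ (coch U S.X₂ n y a) = 0 := by
    intro a
    have := congr_fun (congr_arg (coch U S.X₃ n) hy) a
    rw [coch_map] at this
    rw [this, map_zero]
    rfl
  choose x hx using fun a => hex _ _ (h1 a)
  refine ⟨(coch U S.X₁ n).symm x, ?_⟩
  apply coch_ext
  intro a
  change coch U S.X₂ n (((cechComplexFunctor U).map S.f).f n _) a = _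
  rw [coch_map, AddEquiv.apply_symm_apply, hx]

end general

end Groth.Agent.H8.CechU

namespace Groth.Agent.H8.CechU

section overU

variable {C : Type u} [Category.{v} C] {U : C} [HasFiniteProducts (Over U)] {ι : Type w}
  (Uf : ι → Over U)

/-- The Čech complex functor on presheaves on `C`, for a family over `U`. -/
noncomputable abbrev GO : (Cᵒᵖ ⥤ AddCommGrpCat.{w}) ⥤ CochainComplex AddCommGrpCat.{w} ℕ :=
  (Functor.whiskeringLeft (Over U)ᵒᵖ Cᵒᵖ AddCommGrpCat.{w}).obj (Over.forget U).op ⋙
    cechComplexFunctor Uf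

instance : (GO Uf).Additive := by
  dsimp only [GO]
  infer_instance

lemma GO_shortExact (S : ShortComplex (Cᵒᵖ ⥤ AddCommGrpCat.{w})) (hS : S.ShortExact) :
    (S.map (GO Uf)).ShortExact := by
  apply LC.shortExact_map_of_degreewise
  intro S hS n
  have hev : ∀ X : Cᵒᵖ, (S.map ((evaluation Cᵒᵖ AddCommGrpCat.{w}).obj X)).ShortExact :=
    fun X => hS.map_of_exact _
  let S' : ShortComplex ((Over U)ᵒᵖ ⥤ AddCommGrpCat.{w}) :=
    S.map ((Functor.whiskeringLeft (Over U)ᵒᵖ Cᵒᵖ AddCommGrpCat.{w}).obj (Over.forget U).op)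
  exact shortExact_cech_eval Uf S'
    (fun X => (hev _).ab_injective_f)
    (fun X => (hev _).ab_surjective_g)
    (fun X y hy => by
      have := (ShortComplex.ab_exact_iff _).1 (hev ((Over.forget U).op.obj X)).exact y hy
      exact this) n
  exact hS

/-- Čech cohomology of presheaves as a δ-functor. -/
noncomputable def cechDelta :
    LC.DeltaFunctor (Cᵒᵖ ⥤ AddCommGrpCat.{w}) AddCommGrpCat.{w} :=
  LC.cxDelta (GO Uf) (GO_shortExact Uf)

lemma cechDelta_effaceable [LocallySmall.{w} C] : (cechDelta Uf).Effaceable := by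
  intro I _ n
  exact isZero_homology_of_injective I n

end overU

end Groth.Agent.H8.CechU

namespace Groth.Agent.H8.CechU

section derived

variable {C : Type u} [Category.{v} C] {U : C} [HasFiniteProducts (Over U)] {ι : Type w}
  (Uf : ι → Over U)

lemma enoughInjectives_of_hasInjectiveResolutions {A : Type*} [Category A] [Abelian A]
    [HasInjectiveResolutions A] : EnoughInjectives A where
  presentation X := by
    obtain ⟨I⟩ := (HasInjectiveResolutions.out (C := A) X).out
    have hm : Mono (I.ι.f 0) := inferInstance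
    exact ⟨⟨I.cocomplex.X 0, inferInstance, I.ι.f 0, hm⟩⟩

/-- Čech cohomology is the derived functor of `Ȟ⁰` on presheaves. -/
theorem nonempty_cechH_iso_rightDerived [LocallySmall.{w} C]
    [HasInjectiveResolutions (Cᵒᵖ ⥤ AddCommGrpCat.{w})]
    [((cechDelta Uf).F 0).Additive] (p : ℕ) :
    Nonempty ((cechDelta Uf).F p ≅ ((cechDelta Uf).F 0).rightDerived p) := by
  have : EnoughInjectives (Cᵒᵖ ⥤ AddCommGrpCat.{w}) :=
    enoughInjectives_of_hasInjectiveResolutions
  exact ⟨(LC.DeltaFunctor.rightDerivedIso (cechDelta Uf) (cechDelta_effaceable Uf)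
    ((cechDelta Uf).F 0) (Iso.refl _) p).symm⟩

end derived

end Groth.Agent.H8.CechU
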